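import Groth.Agent.Lib.AlgSpace.EtaleApps
import Groth.Agent.Lib.GlueModif25.Glue
import Groth.Agent.Lib.CechAff15.Basic

/-!
# Helpers for diagrams of separated spaces over a base space
-/

universe u v w

set_option backward.isDefEq.respectTransparency.types false

open CategoryTheory CategoryTheory.Limits AlgebraicGeometry
open AlgSp Groth.Agent.AlgSpace Groth.Agent.AlgSpDecent Groth.Agent.AlgSpDescent

noncomputable section

namespace Groth.Agent.SepColim25

variable {S : Scheme.{u}}

/-- A morphism out of an affine scheme is separated. -/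
theorem isSeparatedMor_of_affine {V : Over S} [IsAffine V.left] {F : Sp S}
    (q : (yon S).obj V ⟶ F) : IsSeparatedMor q := by
  let v : V ⟶ Over.mk (𝟙 S) := Over.mkIdTerminal.from V
  have : IsSeparated v.left := inferInstance
  have hv : IsSeparatedMor ((yon S).map v) := (isSeparatedMor_yon_map_iff v).2 this
  have huniq : ∀ {P : Sp S} (a b : P ⟶ (yon S).obj (Over.mk (𝟙 S))), a = b := fun a b =>
    hom_ext_yon fun T x => by
      obtain ⟨m, hm⟩ := (yon S).map_surjective (x ≫ a)
      obtain ⟨n, hn⟩ := (yon S).map_surjective (x ≫ b)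
      rw [← hm, ← hn, Over.mkIdTerminal.hom_ext m n]
  let M : pullback q q ⟶ pullback ((yon S).map v) ((yon S).map v) :=
    pullback.lift (pullback.fst q q) (pullback.snd q q) (huniq _ _)
  have : Mono M := ⟨fun a b h => by
    have h₁ := h =≫ pullback.fst _ _
    have h₂ := h =≫ pullback.snd _ _
    simp only [M, Category.assoc, pullback.lift_fst, pullback.lift_snd] at h₁ h₂
    exact pullback.hom_ext h₁ h₂⟩
  have e : pullback.diagonal q ≫ M = pullback.diagonal ((yon S).map v) := by
    apply pullback.hom_ext <;> simp [M, pullback.lift_fst, pullback.lift_snd]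
  have h : RepWith @IsClosedImmersion (pullback.diagonal q ≫ M) := by rw [e]; exact hv
  exact repWith_of_isPullback (isPullback_of_mono (pullback.diagonal q) M) h

/-- Separated morphisms compose. -/
theorem sep_comp {A B C : Sp S} {f : A ⟶ B} {g : B ⟶ C} (hf : IsSeparatedMor f) (hg : IsSeparatedMor g) :
    IsSeparatedMor (f ≫ g) :=
  repWith_diagonal_comp hf hg

theorem etale_of_isPullback {X Y X' Y' : Space S} {fst : X'.obj ⟶ X.obj} {snd : X'.obj ⟶ Y'.obj}
    {f : X.obj ⟶ Y.obj} {g : Y'.obj ⟶ Y.obj} (sq : IsPullback fst snd f g) (hf : IsEtaleMor f) :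
    IsEtaleMor snd :=
  isEtaleMor_of_locP_etale X'.property Y'.property
    (locP_of_isPullback X.property Y.property Y'.property sq (locP_etale_of_isEtaleMor hf))

theorem etale_comp {A B C : Sp S} {f : A ⟶ B} {g : B ⟶ C} (hf : IsEtaleMor f) (hg : IsEtaleMor g) :
    IsEtaleMor (f ≫ g) := fun U φ hφ => by
  have := hg _ (hf φ hφ)
  rwa [Category.assoc] at this

/-- A fibre product of spaces as a space. -/
abbrev pb {A B C : Space S} (f : A.obj ⟶ C.obj) (g : B.obj ⟶ C.obj) : Space S :=
  ⟨pullback f g, isAlgSpace_pullback C.property A.property B.property (IsPullback.of_hasPullback f g)⟩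

/-- Jointly surjective etale families are fpqc covers. -/
theorem isFpqcCover_etale {κ : Type u} {X : Space S} {U : κ → Space S} {g : ∀ k, (U k).obj ⟶ X.obj}
    (hg : ∀ k, IsEtaleMor (g k)) (hc : ∀ x, ∃ k, x ∈ Set.range (Points.map (g k))) :
    IsFpqcCover (fun k => (U k).obj) g :=
  isFpqcCover_of_isFppfCover X.property (fun k => (U k).property)
    ⟨fun k => ⟨locP_mono (fun _ _ f (_ : Etale f) => inferInstanceAs (Flat f)) (locP_etale_of_isEtaleMor (hg k)),
      locP_mono (fun _ _ f (_ : Etale f) => inferInstanceAs (LocallyOfFinitePresentation f))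
        (locP_etale_of_isEtaleMor (hg k))⟩, hc⟩

variable {B : Space S} {P : ObjectProperty (Over B)}

/-- The underlying sheaf of a space over the base. -/
abbrev sp (X : P.FullSubcategory) : Space S := X.obj.left

/-- The structure map. -/
abbrev str (X : P.FullSubcategory) : (sp X).obj ⟶ B.obj := X.obj.hom.hom

/-- A morphism from a map of sheaves. -/
def mkHom {X Y : P.FullSubcategory} (g : (sp X).obj ⟶ (sp Y).obj) (w : g ≫ str Y = str X) : X ⟶ Y :=
  ObjectProperty.homMk (Over.homMk (ObjectProperty.homMk g) (InducedCategory.hom_ext w))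

@[simp] theorem mkHom_val {X Y : P.FullSubcategory} (g : (sp X).obj ⟶ (sp Y).obj) (w : g ≫ str Y = str X) :
    (mkHom g w).hom.left.hom = g := rfl

theorem w_val {X Y : P.FullSubcategory} (g : X ⟶ Y) : g.hom.left.hom ≫ str Y = str X :=
  congrArg InducedCategory.Hom.hom (Over.w g.hom)

theorem hom_ext' {X Y : P.FullSubcategory} {g h : X ⟶ Y} (e : g.hom.left.hom = h.hom.left.hom) : g = h :=
  InducedCategory.hom_ext (Over.OverMorphism.ext (InducedCategory.hom_ext e))

variable {I : Type v} [Category.{w} I] {D : I ⥤ P.FullSubcategory}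

/-- The pullback of a family of maps out of a diagram along a separated map. -/
theorem exists_pullSys (hP : ∀ T : Over B, P T ↔ IsSeparatedMor T.hom.hom) {T Q : Space S}
    (ψ : ∀ i, (sp (D.obj i)).obj ⟶ T.obj)
    (hψ : ∀ ⦃i j : I⦄ (g : i ⟶ j), (D.map g).hom.left.hom ≫ ψ j = ψ i) (q : Q.obj ⟶ T.obj)
    (hq : IsEtaleMor q) (hqs : IsSeparatedMor q) :
    ∃ (D' : I ⥤ P.FullSubcategory) (α : D' ⟶ D) (σ : ∀ i, (sp (D'.obj i)).obj ⟶ Q.obj),
      (∀ ⦃i j : I⦄ (g : i ⟶ j), (D'.map g).hom.left.hom ≫ σ j = σ i) ∧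
      (∀ i, IsPullback (α.app i).hom.left.hom (σ i) (ψ i) q) ∧
      (∀ i, IsEtaleMor (α.app i).hom.left.hom) ∧ (∀ i, IsSeparatedMor (α.app i).hom.left.hom) ∧
      (∀ ⦃i j : I⦄ (g : i ⟶ j), IsPullback (D'.map g).hom.left.hom (α.app i).hom.left.hom
        (α.app j).hom.left.hom (D.map g).hom.left.hom) := by
  have he : ∀ i, IsEtaleMor (pullback.fst (ψ i) q) := fun i =>
    etale_of_isPullback (X' := pb (ψ i) q) (IsPullback.of_hasPullback (ψ i) q).flip hq
  have hs : ∀ i, IsSeparatedMor (pullback.fst (ψ i) q) := fun i =>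
    isSeparatedMor_of_isPullback (IsPullback.of_hasPullback (ψ i) q).flip hqs
  let ob : I → P.FullSubcategory := fun i =>
    ⟨Over.mk (ObjectProperty.homMk (pullback.fst (ψ i) q ≫ str (D.obj i)) : pb (ψ i) q ⟶ B),
      (hP _).2 (sep_comp (hs i) ((hP _).1 (D.obj i).property))⟩
  let m : ∀ ⦃i j : I⦄, (i ⟶ j) → (ob i ⟶ ob j) := fun i j g =>
    mkHom (pullback.map (ψ i) q (ψ j) q (D.map g).hom.left.hom (𝟙 _) (𝟙 _) (by rw [hψ g]; simp) (by simp)) (by
      change _ ≫ pullback.fst (ψ j) q ≫ str (D.obj j) = pullback.fst (ψ i) q ≫ str (D.obj i)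
      simp only [pullback.map, pullback.lift_fst_assoc, Category.assoc, w_val])
  let D' : I ⥤ P.FullSubcategory :=
    { obj := ob
      map := fun g => m g
      map_id := fun i => hom_ext' (by
        apply pullback.hom_ext <;> simp [m, pullback.map, pullback.lift_fst, pullback.lift_snd] <;> rfl)
      map_comp := fun f g => hom_ext' (by
        apply pullback.hom_ext <;> simp [m, pullback.map, pullback.lift_fst, pullback.lift_snd, pullback.lift_fst_assoc, pullback.lift_snd_assoc]) }
  let α : D' ⟶ D :=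
    { app := fun i => mkHom (X := ob i) (pullback.fst (ψ i) q) rfl
      naturality := fun i j g => hom_ext' (by
        exact pullback.lift_fst _ _ _) }
  refine ⟨D', α, fun i => pullback.snd (ψ i) q, fun i j g => ?_, fun i => IsPullback.of_hasPullback _ _,
    he, hs, fun i j g => ?_⟩
  · exact (pullback.lift_snd _ _ _).trans (Category.comp_id _)
  · refine IsPullback.of_right ?_ ?_ (IsPullback.of_hasPullback (ψ j) q).flip
    · have e : (D'.map g).hom.left.hom ≫ pullback.snd (ψ j) q = pullback.snd (ψ i) q :=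
        (pullback.lift_snd _ _ _).trans (Category.comp_id _)
      rw [e, hψ g]
      exact (IsPullback.of_hasPullback (ψ i) q).flip
    · exact congrArg (fun e => e.hom.left.hom) (α.naturality g)

end Groth.Agent.SepColim25
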